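import Cfsg.Agent.H164.ExplElt
import Cfsg.Agent.H58.Rec.Kill

/-!
# Elements and Frobenius subgroups of some small groups of Lie type (helper169)

`psp_nine`, `ominus_nine`, `psl_nine` : elements of order 9 in `PSp₈(2)`, `PΩ₈⁻(2)`, `PSL₄(4)`;
`frob_psl2` : Frobenius subgroups `2^m : (2^m - 1)` in `PSL₂(2^m)`.
-/

set_option autoImplicit false
set_option maxRecDepth 100000

namespace Cfsg.Agent.H169.He.Cands

open Cfsg Subgroup Matrix
open Cfsg.Agent.H164.ExplElt
open Cfsg.Agent.H58.Rec (HasFrob)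

/-- An element of order 9 in `PΩ₈⁻(2)`. -/
theorem ominus_nine_two : ∃ g : POmega (ZMod 2) (quadFormMinus 3 (ZMod 2) 1 1), orderOf g = 9 := by
  have h := pow_nine (g := tab (idM 3) [191, 10, 34, 93, 54, 83, 213, 200])
    (g2 := tab (idM 3) [103, 87, 89, 35, 77, 86, 182, 64])
    (g3 := tab (idM 3) [17, 116, 1, 230, 21, 203, 133, 213])
    (g6 := tab (idM 3) [4, 90, 17, 238, 5, 211, 197, 85])
    (by decide +kernel) (by decide +kernel) (by decide +kernel) (by decide +kernel)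
  exact exists_POmega (p := 3) (k := 1) (x := tab (idM 3) [94, 17, 245, 218, 102, 235, 112, 11])
    (xi := tab (idM 3) [77, 185, 166, 116, 79, 42, 37, 175])
    (y := tab (idM 3) [62, 59, 233, 201, 217, 20, 192, 81])
    (yi := tab (idM 3) [59, 94, 56, 115, 24, 12, 163, 227])
    (a := tab (idM 3) [2, 231, 139, 186, 6, 73, 13, 204])
    (b := tab (idM 3) [211, 191, 137, 143, 141, 33, 15, 193])
    (t := tab (idM 3) [150, 137, 229, 124, 174, 166, 176, 232])
    (c := tab (idM 3) [255, 150, 75, 146, 238, 154, 202, 212])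
    (by decide +kernel) (by decide +kernel) (by decide +kernel) (by decide +kernel) (by decide +kernel)
    (by decide +kernel) (by decide +kernel) (by decide +kernel) (by decide +kernel) h.1 h.2 (by decide +kernel)
    (by decide +kernel) (by decide +kernel)

/-- An element of order 9 in `PSp₈(2)`. -/
theorem psp_nine_two : ∃ g : PSp 4 (ZMod 2), orderOf g = 9 := by
  have h := pow_nine (g := tab (idP 4) [120, 48, 140, 247, 171, 5, 223, 35])
    (g2 := tab (idP 4) [134, 174, 88, 150, 153, 244, 100, 77])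
    (g3 := tab (idP 4) [159, 109, 131, 52, 7, 222, 86, 220])
    (g6 := tab (idP 4) [158, 160, 46, 90, 113, 87, 191, 58])
    (by decide +kernel) (by decide +kernel) (by decide +kernel) (by decide +kernel)
  exact exists_PSp (p := 3) (k := 1) (c := tab (idP 4) [106, 117, 183, 204, 103, 224, 154, 156]) (by decide +kernel)
    (by decide +kernel) h.1 h.2 (by decide +kernel)

theorem psp_nine {F : Type} [Field F] [Fintype F] (hF : Fintype.card F = 2) : ∃ g : PSp 4 F, orderOf g = 9 := by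
  obtain ⟨σ⟩ := exists_equiv hF
  exact transport (LieClassical.FieldTransfer.pspCongr 4 σ) psp_nine_two

theorem ominus_nine {F : Type} [Field F] [Fintype F] (hF : Fintype.card F = 2) (a b : F)
    (hab : ∀ z₁ z₂ : F, z₁ ^ 2 + a * z₁ * z₂ + b * z₂ ^ 2 = 0 → z₁ = 0 ∧ z₂ = 0) :
    ∃ g : POmega F (quadFormMinus 3 F a b), orderOf g = 9 := by
  obtain ⟨σ⟩ := exists_equiv hF
  have h01 : ∀ x : F, x = 0 ∨ x = 1 := by
    intro x
    have h : ∀ z : ZMod 2, z = 0 ∨ z = 1 := by decide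
    rcases h (σ.symm x) with h | h
    · left
      rw [← σ.apply_symm_apply x, h, map_zero]
    · right
      rw [← σ.apply_symm_apply x, h, map_one]
  have h2 : (1 : F) + 1 = 0 := by
    rw [← map_one σ, ← map_add]
    exact map_zero σ
  have hb : b = 1 := by
    rcases h01 b with h | h
    · exact absurd (hab 0 1 (by rw [h]; ring)).2 one_ne_zero
    · exact h
  have ha : a = 1 := by
    rcases h01 a with h | h
    · refine absurd (hab 1 1 ?_).2 one_ne_zero
      rw [h, hb]
      linear_combination h2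
    · exact h
  subst ha hb
  obtain ⟨e⟩ := UGT.U2.Rec.Congr.nonempty_POmega σ (Q := quadFormMinus 3 (ZMod 2) 1 1) (Q' := quadFormMinus 3 F 1 1)
    (fun v => by simp only [quadFormMinus, map_add, map_mul, map_pow, map_sum, Function.comp_apply, one_mul])
  exact transport e ominus_nine_two

/-- An element of order 9 in `PSL₄(4)`. -/
theorem psl_nine {F : Type} [Field F] [Fintype F] (hF : Fintype.card F = 4) :
    ∃ g : Matrix.ProjectiveSpecialLinearGroup (Fin 4) F, orderOf g = 9 := by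
  classical
  obtain ⟨w, hw0, hw1⟩ : ∃ w : F, w ≠ 0 ∧ w ≠ 1 := by
    have h1 : ({0, 1} : Finset F) ≠ Finset.univ := by
      intro h
      have h2 := congrArg Finset.card h
      rw [Finset.card_univ, hF] at h2
      have h3 : ({0, 1} : Finset F).card ≤ 2 := Finset.card_le_two
      omega
    obtain ⟨w, -, hw⟩ := Finset.exists_of_ssubset (Finset.ssubset_univ_iff.2 h1)
    rw [Finset.mem_insert, Finset.mem_singleton, not_or] at hw
    exact ⟨w, hw⟩
  have hw3 : w * w * w = 1 := by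
    have h := FiniteField.pow_card_sub_one_eq_one w hw0
    rw [hF] at h
    calc w * w * w = w ^ (4 - 1) := by norm_num; ring
      _ = 1 := h
  have hw3' : w * w * (w * w) = w := by rw [← mul_assoc, hw3, one_mul]
  let M : Matrix (Fin 4) (Fin 4) F := !![0, 0, w, 0; 1, 0, 0, 0; 0, 1, 0, 0; 0, 0, 0, w * w]
  let M3 : Matrix (Fin 4) (Fin 4) F := !![w, 0, 0, 0; 0, w, 0, 0; 0, 0, w, 0; 0, 0, 0, 1]
  let C : Matrix (Fin 4) (Fin 4) F := !![1, 0, 0, 1; 0, 1, 0, 0; 0, 0, 1, 0; 0, 0, 0, 1]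
  have hM : M.det = 1 := by
    simp [M, Matrix.det_succ_row_zero, Fin.sum_univ_succ, Fin.succAbove]
    linear_combination hw3
  have hC : C.det = 1 := by
    simp only [C, Matrix.det_succ_row_zero, Fin.sum_univ_succ]
    simp
  have hM3 : M * M * M = M3 := by
    ext i j
    fin_cases i <;> fin_cases j <;> simp [M, M3, Matrix.mul_apply, Fin.sum_univ_succ]
    linear_combination (w * w * w + 1) * hw3
  have hM9 : M3 * M3 * M3 = 1 := by
    ext i j
    fin_cases i <;> fin_cases j <;> simp [M3, Matrix.mul_apply, Fin.sum_univ_succ, hw3]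
  have hne : M3 * C ≠ C * M3 := by
    intro h
    have h1 := congrFun (congrFun h 0) 3
    simp [M3, C, Matrix.mul_apply, Fin.sum_univ_succ] at h1
    exact hw1 h1
  let g : Matrix.SpecialLinearGroup (Fin 4) F := ⟨M, hM⟩
  let c : Matrix.SpecialLinearGroup (Fin 4) F := ⟨C, hC⟩
  have hg3 : ((g ^ 3 : Matrix.SpecialLinearGroup (Fin 4) F) : Matrix (Fin 4) (Fin 4) F) = M3 := by
    rw [Matrix.SpecialLinearGroup.coe_pow]
    show M ^ 3 = M3
    rw [pow_succ, pow_two, hM3]
  refine ⟨QuotientGroup.mk g, orderOf_mk (p := 3) (k := 1) (c := c) ?_ ?_⟩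
  · apply Subtype.ext
    show ((g ^ 9 : Matrix.SpecialLinearGroup (Fin 4) F) : Matrix (Fin 4) (Fin 4) F) = 1
    have h9 : g ^ 9 = g ^ 3 * g ^ 3 * g ^ 3 := by rw [← pow_add, ← pow_add]
    rw [h9, Matrix.SpecialLinearGroup.coe_mul, Matrix.SpecialLinearGroup.coe_mul, hg3, hM9]
  · intro h
    have h1 := congrArg (fun x : Matrix.SpecialLinearGroup (Fin 4) F => (x : Matrix (Fin 4) (Fin 4) F)) h.eq
    simp only [Matrix.SpecialLinearGroup.coe_mul, hg3, pow_one] at h1
    exact hne h1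

/-! ### Frobenius groups in `PSL₂(2^m)` -/

section

variable {F : Type} [Field F] [Fintype F]

/-- the center of `SL₂` in characteristic 2 -/
theorem center_bot (h2 : (2 : F) = 0) : center (Matrix.SpecialLinearGroup (Fin 2) F) = ⊥ := by
  rw [eq_bot_iff]
  intro x hx
  rw [Matrix.SpecialLinearGroup.mem_center_iff] at hx
  obtain ⟨r, hr, hx⟩ := hx
  rw [Fintype.card_fin] at hr
  have h3 : (r - 1) * (r - 1) = 0 := by linear_combination hr + (1 - r) * h2
  have h4 : r = 1 := sub_eq_zero.1 (mul_self_eq_zero.1 h3)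
  rw [mem_bot]
  apply Subtype.ext
  rw [← hx, h4, map_one]
  rfl

/-- upper unitriangular matrices -/
def t (a : F) : Matrix.SpecialLinearGroup (Fin 2) F := ⟨!![1, a; 0, 1], by simp [Matrix.det_fin_two]⟩

/-- diagonal matrices -/
def d (u : Fˣ) : Matrix.SpecialLinearGroup (Fin 2) F := ⟨!![(u : F), 0; 0, ((u⁻¹ : Fˣ) : F)], by
  simp [Matrix.det_fin_two]⟩

theorem t_mul (a b : F) : t a * t b = t (a + b) := by
  apply Subtype.ext
  show (!![1, a; 0, 1] : Matrix (Fin 2) (Fin 2) F) * !![1, b; 0, 1] = !![1, a + b; 0, 1]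
  rw [Matrix.mul_fin_two]
  simp [add_comm]

theorem t_zero : (t 0 : Matrix.SpecialLinearGroup (Fin 2) F) = 1 := by
  apply Subtype.ext
  ext i j
  fin_cases i <;> fin_cases j <;> simp [t]

theorem t_inv (a : F) : (t a)⁻¹ = t (-a) := by
  rw [inv_eq_iff_mul_eq_one, t_mul, add_neg_cancel, t_zero]

theorem t_inj {a b : F} (h : t a = t b) : a = b := by
  have := congrFun (congrFun (congrArg Subtype.val h) 0) 1
  simpa [t] using this

theorem d_mul (u v : Fˣ) : d u * d v = d (u * v) := by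
  apply Subtype.ext
  show (!![(u : F), 0; 0, ((u⁻¹ : Fˣ) : F)] : Matrix (Fin 2) (Fin 2) F) * !![(v : F), 0; 0, ((v⁻¹ : Fˣ) : F)] =
    !![((u * v : Fˣ) : F), 0; 0, (((u * v)⁻¹ : Fˣ) : F)]
  rw [Matrix.mul_fin_two]
  simp [mul_comm]

theorem d_one : (d 1 : Matrix.SpecialLinearGroup (Fin 2) F) = 1 := by
  apply Subtype.ext
  ext i j
  fin_cases i <;> fin_cases j <;> simp [d]

theorem d_inj {u v : Fˣ} (h : d u = d v) : u = v := by
  have := congrFun (congrFun (congrArg Subtype.val h) 0) 0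
  exact Units.ext (by simpa [d] using this)

/-- `d` as a homomorphism -/
def dHom : Fˣ →* Matrix.SpecialLinearGroup (Fin 2) F where
  toFun := d
  map_one' := d_one
  map_mul' u v := (d_mul u v).symm

theorem d_t (u : Fˣ) (a : F) : d u * t a = t (u * u * a) * d u := by
  apply Subtype.ext
  show (!![(u : F), 0; 0, ((u⁻¹ : Fˣ) : F)] : Matrix (Fin 2) (Fin 2) F) * !![1, a; 0, 1] =
    !![1, u * u * a; 0, 1] * !![(u : F), 0; 0, ((u⁻¹ : Fˣ) : F)]
  rw [Matrix.mul_fin_two, Matrix.mul_fin_two]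
  have h : (u : F) * ((u⁻¹ : Fˣ) : F) = 1 := Units.mul_inv u
  ext i j
  fin_cases i <;> fin_cases j
  · show (u : F) * 1 + 0 * 0 = 1 * u + u * u * a * 0
    ring
  · show (u : F) * a + 0 * 1 = 1 * 0 + u * u * a * ((u⁻¹ : Fˣ) : F)
    linear_combination (-(u : F) * a) * h
  · show (0 : F) * 1 + ((u⁻¹ : Fˣ) : F) * 0 = 0 * u + 1 * 0
    ring
  · show (0 : F) * a + ((u⁻¹ : Fˣ) : F) * 1 = 0 * 0 + 1 * ((u⁻¹ : Fˣ) : F)
    ring

/-- the unitriangular group -/
def T : Subgroup (Matrix.SpecialLinearGroup (Fin 2) F) where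
  carrier := {x | ∃ a, x = t a}
  one_mem' := ⟨0, t_zero.symm⟩
  mul_mem' := by
    rintro _ _ ⟨a, rfl⟩ ⟨b, rfl⟩
    exact ⟨a + b, t_mul a b⟩
  inv_mem' := by
    rintro _ ⟨a, rfl⟩
    exact ⟨-a, t_inv a⟩

/-- **The Frobenius group `2^m : (2^m - 1)`.** -/
theorem frob_sl2 (h2 : (2 : F) = 0) : HasFrob (Matrix.SpecialLinearGroup (Fin 2) F) 2 (Fintype.card F - 1) := by
  classical
  obtain ⟨u, hu⟩ := IsCyclic.exists_generator (α := Fˣ)
  have hou : orderOf u = Fintype.card F - 1 := by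
    rw [orderOf_eq_card_of_forall_mem_zpowers hu, Nat.card_eq_fintype_card, Fintype.card_units]
  have hod : orderOf (d u) = Fintype.card F - 1 := by
    have : orderOf (dHom u) = orderOf u := orderOf_injective dHom (fun _ _ h => d_inj h) u
    rw [← hou, ← this]
    rfl
  refine ⟨T, d u, ?_, ?_, ?_, hod, ?_⟩
  · rintro ⟨_, a, rfl⟩
    refine ⟨1, Subtype.ext ?_⟩
    show t a ^ 2 ^ 1 = 1
    rw [pow_one, pow_two, t_mul, ← two_mul, h2, zero_mul, t_zero]
  · intro h
    have h1 : t (1 : F) ∈ (T : Subgroup (Matrix.SpecialLinearGroup (Fin 2) F)) := ⟨1, rfl⟩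
    rw [h, mem_bot, ← t_zero] at h1
    exact one_ne_zero (t_inj h1)
  · rw [mem_normalizer_iff]
    intro x
    constructor
    · rintro ⟨a, rfl⟩
      exact ⟨u * u * a, by rw [d_t, mul_assoc, mul_inv_cancel, mul_one]⟩
    · rintro ⟨a, ha⟩
      refine ⟨(u⁻¹ : Fˣ) * (u⁻¹ : Fˣ) * a, ?_⟩
      have h3 : d u * x = t a * d u := by rw [← ha]; group
      have h4 : d u * t (((u⁻¹ : Fˣ) : F) * ((u⁻¹ : Fˣ) : F) * a) = t a * d u := by
        rw [d_t]
        congr 2
        have : (u : F) * ((u⁻¹ : Fˣ) : F) = 1 := Units.mul_inv u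
        linear_combination ((u : F) * ((u⁻¹ : Fˣ) : F) + 1) * a * this
      exact mul_left_cancel (h3.trans h4.symm)
  · rintro j hj0 hj _ ⟨a, rfl⟩ h
    have h3 : d u ^ j = d (u ^ j) := ((dHom (F := F)).map_pow u j).symm
    rw [h3, d_t] at h
    have h4 : t a = t (((u ^ j : Fˣ) : F) * ((u ^ j : Fˣ) : F) * a) := mul_right_cancel h
    have h5 := t_inj h4
    by_contra hne
    have ha : a ≠ 0 := by
      rintro rfl
      exact hne t_zero
    have h6 : ((u ^ j : Fˣ) : F) * ((u ^ j : Fˣ) : F) = 1 := by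
      have h7 : (((u ^ j : Fˣ) : F) * ((u ^ j : Fˣ) : F) - 1) * a = 0 := by linear_combination -h5
      rcases mul_eq_zero.1 h7 with h8 | h8
      · exact sub_eq_zero.1 h8
      · exact absurd h8 ha
    have h7 : ((u ^ j : Fˣ) : F) = 1 := by
      have h8 : (((u ^ j : Fˣ) : F) - 1) * (((u ^ j : Fˣ) : F) - 1) = 0 := by
        linear_combination h6 + (1 - ((u ^ j : Fˣ) : F)) * h2
      exact sub_eq_zero.1 (mul_self_eq_zero.1 h8)
    have h8 : u ^ j = 1 := Units.ext h7
    have h9 := Nat.le_of_dvd hj0 (orderOf_dvd_of_pow_eq_one h8)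
    rw [hou] at h9
    omega

/-- **The Frobenius group `2^m : (2^m - 1)` in `PSL₂(2^m)`.** -/
theorem frob_psl2 (h2 : (2 : F) = 0) :
    HasFrob (Matrix.ProjectiveSpecialLinearGroup (Fin 2) F) 2 (Fintype.card F - 1) := by
  refine (frob_sl2 h2).of_injective (QuotientGroup.mk' _) ?_
  rw [← MonoidHom.ker_eq_bot_iff, QuotientGroup.ker_mk', center_bot h2]

end

end Cfsg.Agent.H169.He.Cands
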