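import Cfsg.Agent.KFacts.He.Cent
import Cfsg.Agent.KFacts.He.Classes

/-!
# Elements of order 8 of the Held group (helper169)

`no_eight` : the Held group has no elements of order `8 m`, `m > 1`. (The fourth power of an element of order 8 is
conjugate to the central transvection `z`, and in `C(z) ≤ L₅(2)` the elements have order dividing 8, 12 or 14.)
-/

set_option autoImplicit false
set_option Elab.async false

namespace Cfsg.Agent.H169.He

open Cfsg.Spor Subgroup
open Cfsg.Agent.KFacts.He.Bound (z)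
open Cfsg.Agent.Held.Code (Emb C X mu mu_assoc mu_e1 mu_lt e1 zc)
open Cfsg.Agent.Held.GenC (good_of_C)

/-- evaluate the number first -/
noncomputable def force (n : ℕ) (f : ℕ → Bool) : Bool :=
  Nat.rec (motive := fun _ => Bool) (f 0) (fun k _ => f (Nat.succ k)) n

theorem force_eq (n : ℕ) (f : ℕ → Bool) : force n f = f n := by
  cases n <;> rfl

/-- `c ^ 8 = 1` implies `c ^ 4 = 1` or `c ^ 4 = z`; otherwise `c ^ 12 = 1` or `c ^ 14 = 1` -/
noncomputable def P (c : ℕ) : Bool :=
  force (mu c c) fun c2 => force (mu c2 c2) fun c4 => force (mu c4 c4) fun c8 =>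
    Bool.rec (Bool.rec (force (mu c8 c4) fun c12 => Nat.beq (mu c12 c2) e1) true (Nat.beq (mu c8 c4) e1))
      (Bool.rec (Nat.beq c4 zc) true (Nat.beq c4 e1)) (Nat.beq c8 e1)

theorem chkP : HeldType.Code.allC P = true := by decide +kernel

theorem cases_code {c : ℕ} (hc : C c) :
    (mu (mu (mu c c) (mu c c)) (mu (mu c c) (mu c c)) = e1 ∧ (mu (mu c c) (mu c c) = e1 ∨ mu (mu c c) (mu c c) = zc)) ∨
    mu (mu (mu (mu c c) (mu c c)) (mu (mu c c) (mu c c))) (mu (mu c c) (mu c c)) = e1 ∨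
    mu (mu (mu (mu (mu c c) (mu c c)) (mu (mu c c) (mu c c))) (mu (mu c c) (mu c c))) (mu c c) = e1 := by
  have h := HeldType.Code.of_allC chkP (good_of_C hc)
  unfold P at h
  simp only [force_eq] at h
  generalize mu c c = c2 at h ⊢
  generalize mu c2 c2 = c4 at h ⊢
  generalize mu c4 c4 = c8 at h ⊢
  rcases h8 : Nat.beq c8 e1 with _ | _
  · rw [h8] at h
    rcases h12 : Nat.beq (mu c8 c4) e1 with _ | _
    · rw [h12] at h
      exact Or.inr (Or.inr (Nat.eq_of_beq_eq_true h))
    · exact Or.inr (Or.inl (Nat.eq_of_beq_eq_true h12))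
  · rw [h8] at h
    refine Or.inl ⟨Nat.eq_of_beq_eq_true h8, ?_⟩
    rcases h4 : Nat.beq c4 e1 with _ | _
    · rw [h4] at h
      exact Or.inr (Nat.eq_of_beq_eq_true h)
    · exact Or.inl (Nat.eq_of_beq_eq_true h4)

/-- the orders of the elements of the centralizer of `z` -/
theorem cases_cent {g : Cfsg.Spor.He} (hg : g * z = z * g) :
    (g ^ 8 = 1 ∧ (g ^ 4 = 1 ∨ g ^ 4 = z)) ∨ g ^ 12 = 1 ∨ g ^ 14 = 1 := by
  have E := KFacts.He.Cent.emb
  obtain ⟨c, hc, rfl⟩ := E.surj g hg
  have h2 := hc.mul hc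
  have h4 := h2.mul h2
  have h8 := h4.mul h4
  have h12 := h8.mul h4
  have e2 : KFacts.He.Cent.ph (mu c c) = KFacts.He.Cent.ph c ^ 2 := by rw [E.mul hc hc, pow_two]
  have e4 : KFacts.He.Cent.ph (mu (mu c c) (mu c c)) = KFacts.He.Cent.ph c ^ 4 := by
    rw [E.mul h2 h2, e2, ← pow_add]
  have e8 : KFacts.He.Cent.ph (mu (mu (mu c c) (mu c c)) (mu (mu c c) (mu c c))) = KFacts.He.Cent.ph c ^ 8 := by
    rw [E.mul h4 h4, e4, ← pow_add]
  have e12 := E.mul h8 h4
  rw [e8, e4, ← pow_add] at e12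
  have e14 := E.mul h12 h2
  rw [e12, e2, ← pow_add] at e14
  have e0 : KFacts.He.Cent.ph e1 = 1 := Held.EmbSt.ph_e1 E
  rcases cases_code hc with ⟨h, h' | h'⟩ | h | h
  · left
    rw [h, e0] at e8
    rw [h', e0] at e4
    exact ⟨e8.symm, Or.inl e4.symm⟩
  · left
    rw [h, e0] at e8
    rw [h', E.z_eq] at e4
    exact ⟨e8.symm, Or.inr e4.symm⟩
  · right; left
    rw [h, e0] at e12
    exact e12.symm
  · right; right
    rw [h, e0] at e14
    exact e14.symm

theorem card_he : Nat.card Cfsg.Spor.He = 4030387200 := KFacts.He.Classes.card_he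

theorem finite_he : Finite Cfsg.Spor.He := Nat.finite_of_card_ne_zero (by rw [card_he]; norm_num)

/-- every 2-element is conjugate into the centralizer of `z` -/
theorem conj_cent {h : Cfsg.Spor.He} (hh : h ^ 8 = 1) : ∃ u : Cfsg.Spor.He, u * h * u⁻¹ * z = z * (u * h * u⁻¹) := by
  have := finite_he
  have h2 : Fact (Nat.Prime 2) := ⟨Nat.prime_two⟩
  -- a Sylow 2-subgroup of `C(z)`
  set Cz := centralizer ({z} : Set Cfsg.Spor.He) with hCz
  obtain ⟨R⟩ : Nonempty (Sylow 2 ↥Cz) := inferInstance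
  set R' : Subgroup Cfsg.Spor.He := (R : Subgroup ↥Cz).map Cz.subtype with hR'
  have hRp : IsPGroup 2 ↥R' := R.isPGroup'.map _
  have hRc : Nat.card ↥R' = 1024 := by
    rw [hR', ← Nat.card_congr ((R : Subgroup ↥Cz).equivMapOfInjective Cz.subtype Cz.subtype_injective).toEquiv,
      Sylow.card_eq_multiplicity, KFacts.He.Classes.card_centralizer]
    have h1 : (21504 : ℕ).factorization 2 = 10 := by
      rw [show 21504 = 2 ^ 10 * 21 by norm_num, Nat.factorization_mul (by norm_num) (by norm_num),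
        Finsupp.add_apply, Nat.Prime.factorization_pow (by norm_num), Nat.factorization_eq_zero_of_not_dvd
        (n := 21) (by norm_num)]
      simp
    rw [h1]
    norm_num
  obtain ⟨P, hP⟩ := hRp.exists_le_sylow
  have hPc : Nat.card ↥(P : Subgroup Cfsg.Spor.He) = 1024 := by
    rw [Sylow.card_eq_multiplicity, card_he]
    have h1 : (4030387200 : ℕ).factorization 2 = 10 := by
      rw [show 4030387200 = 2 ^ 10 * 3935925 by norm_num, Nat.factorization_mul (by norm_num) (by norm_num),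
        Finsupp.add_apply, Nat.Prime.factorization_pow (by norm_num), Nat.factorization_eq_zero_of_not_dvd
        (n := 3935925) (by norm_num)]
      simp
    rw [h1]
    norm_num
  have hPR : R' = P := Subgroup.eq_of_le_of_card_ge hP (by rw [hPc, hRc])
  have hh' : orderOf h ∣ 2 ^ 3 := orderOf_dvd_of_pow_eq_one (by norm_num; exact hh)
  obtain ⟨k, -, hk⟩ := (Nat.dvd_prime_pow Nat.prime_two).1 hh'
  have hZ : IsPGroup 2 ↥(zpowers h) := IsPGroup.of_card (n := k) (by rw [Nat.card_zpowers, hk])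
  obtain ⟨P', hP'⟩ := hZ.exists_le_sylow
  obtain ⟨g, hg⟩ := MulAction.exists_smul_eq Cfsg.Spor.He P' P
  refine ⟨g, ?_⟩
  have h1 : g * h * g⁻¹ ∈ R' := by
    rw [hPR, ← hg, Sylow.coe_subgroup_smul]
    exact Subgroup.smul_mem_pointwise_smul h (MulAut.conj g) _ (hP' (mem_zpowers h))
  obtain ⟨y, -, hy⟩ := h1
  have h3 := mem_centralizer_singleton_iff.1 y.2
  change (y : Cfsg.Spor.He) = _ at hy
  rw [← hy]
  exact h3

theorem orderOf_conj (u x : Cfsg.Spor.He) : orderOf (u * x * u⁻¹) = orderOf x := by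
  have : u * x * u⁻¹ = MulAut.conj u x := rfl
  rw [this, MulEquiv.orderOf_eq]

/-- **No elements of order `8 m`, `m > 1`.** -/
theorem no_eight {m : ℕ} (hm : 1 < m) (g : Cfsg.Spor.He) (hg : orderOf g = 8 * m) : False := by
  have hh : orderOf (g ^ m) = 8 := by
    rw [orderOf_pow_of_dvd (by omega) (by rw [hg]; exact dvd_mul_left m 8), hg]
    exact Nat.mul_div_cancel _ (by omega)
  obtain ⟨u, hu⟩ := conj_cent (h := g ^ m) (by rw [← hh, pow_orderOf_eq_one])
  have h8 : orderOf (u * g ^ m * u⁻¹) = 8 := by rw [orderOf_conj, hh]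
  have hz : (u * g ^ m * u⁻¹) ^ 4 = z := by
    rcases cases_cent hu with ⟨-, h | h⟩ | h | h
    · exfalso
      have := orderOf_dvd_of_pow_eq_one h
      rw [h8] at this
      omega
    · exact h
    · exfalso
      have := orderOf_dvd_of_pow_eq_one h
      rw [h8] at this
      omega
    · exfalso
      have := orderOf_dvd_of_pow_eq_one h
      rw [h8] at this
      omega
  have hc : (u * g * u⁻¹) * z = z * (u * g * u⁻¹) := by
    rw [← hz, ← conj_pow]
    exact ((Commute.refl (u * g * u⁻¹)).pow_right m |>.pow_right 4).eq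
  have ho : orderOf (u * g * u⁻¹) = 8 * m := by rw [orderOf_conj, hg]
  rcases cases_cent hc with ⟨h, -⟩ | h | h
  · have := Nat.le_of_dvd (by norm_num) (orderOf_dvd_of_pow_eq_one h)
    rw [ho] at this
    omega
  · have := orderOf_dvd_of_pow_eq_one h
    rw [ho] at this
    have := (Nat.dvd_of_mul_dvd_mul_right (by omega : 0 < m) (this.trans (Dvd.intro m rfl)) : 8 ∣ 12)
    omega
  · have := orderOf_dvd_of_pow_eq_one h
    rw [ho] at this
    have := (Nat.dvd_of_mul_dvd_mul_right (by omega : 0 < m) (this.trans (Dvd.intro m rfl)) : 8 ∣ 14)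
    omega

end Cfsg.Agent.H169.He
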