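import Cfsg.Agent.H169.He.Eight
import Cfsg.Agent.H436.HeFive
import Cfsg.Agent.BpSpor.HeThree
import Cfsg.Agent.H573.Spor.He
import Cfsg.Agent.H856.Heis

/-!
# Element orders of the Held group (helper169)

15 is an element order; 9, 25, 30, 35 and 8 m, 17 m (m > 1) are not.
-/

set_option autoImplicit false
set_option maxRecDepth 100000

namespace Cfsg.Agent.H169.He

open Cfsg Subgroup
open Cfsg.Spor.He (Gen)
open Cfsg.Agent.KFacts.He.Bound (z)
open Cfsg.Agent.SporadicB.HePerm (act wd phi)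
open Cfsg.Agent.FixBN.HeStab Cfsg.Agent.KFacts.He.Lv Cfsg.Agent.CpAutHe.Cnt
open Cfsg.Agent.KFacts.He.TwoACent (L V two card_V)
open Cfsg.Agent.KFacts.He.TwoAPlane (Th ker_Th)
open Cfsg.Agent.ONType.Psl (PSL3)
open Cfsg.Agent.H573.Spor.HeR (pow_of_chk ne_one_of_act)

/-- a power of order `d` -/
theorem orderOf_pow_eq {T : Type*} [Group T] {g : T} {d k : ℕ} (hd : 0 < d) (hk : 0 < k) (hg : orderOf g = d * k) :
    orderOf (g ^ k) = d := by
  rw [orderOf_pow_of_dvd hk.ne' (by rw [hg]; exact dvd_mul_left k d), hg]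
  exact Nat.mul_div_cancel _ hk

/-- the element of order 15 -/
theorem ord15 : ∃ g : Cfsg.Spor.He, orderOf g = 15 := by
  refine ⟨wd H436.HeFive.Q * wd H436.HeFive.X, ?_⟩
  have h : Commute (wd H436.HeFive.Q) (wd H436.HeFive.X) := H436.HeFive.commQ
  rw [h.orderOf_mul_eq_mul_orderOf_of_coprime (by rw [H436.HeFive.orderQ, H436.HeFive.orderX]; norm_num),
    H436.HeFive.orderQ, H436.HeFive.orderX]

/-- 35 is not an element order -/
theorem no35 (g : Cfsg.Spor.He) : orderOf g ≠ 35 := by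
  intro hg
  have := finite_he
  have h5 := orderOf_pow_eq (d := 5) (k := 7) (by norm_num) (by norm_num) hg
  have h7 := orderOf_pow_eq (d := 7) (k := 5) (by norm_num) (by norm_num) hg
  have hc : g ^ 5 ∈ centralizer ({g ^ 7} : Set Cfsg.Spor.He) :=
    mem_centralizer_singleton_iff.2 (((Commute.refl g).pow_pow 5 7).eq)
  have h1 := Subgroup.orderOf_dvd_natCard _ hc
  rw [h7] at h1
  exact absurd (h1.trans (H436.HeFive.cent5 _ h5)) (by norm_num)

/-- elements of odd order commuting with `a` -/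
theorem mem_L_odd {x : Cfsg.Spor.He} (hx : Odd (orderOf x)) (hxa : x * gn .a = gn .a * x) : x ∈ L := by
  have h1 : x * x ∈ L := by
    rcases two hxa hxa with h | h | h
    · exact L.mul_mem h h
    · exact L.mul_mem h h
    · exact h
  obtain ⟨k, hk⟩ := hx
  have h2 : x = (x * x) ^ (k + 1) := by
    have h3 : x ^ (2 * k + 1) = 1 := by rw [← hk, pow_orderOf_eq_one]
    rw [← pow_two, ← pow_mul, show 2 * (k + 1) = (2 * k + 1) + 1 by ring, pow_succ, h3, one_mul]
  rw [h2]
  exact L.pow_mem h1 _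

/-- the order in `PSL₃(4)` -/
theorem orderOf_Th {x : Cfsg.Spor.He} (hxL : x ∈ L) {p : ℕ} (hp : p.Prime) (hp2 : p ≠ 2) (hx : orderOf x = p) :
    orderOf (Th ⟨x, hxL⟩) = p := by
  have hfp : Fact p.Prime := ⟨hp⟩
  refine orderOf_eq_prime ?_ ?_
  · rw [← map_pow]
    have h4 : (⟨x, hxL⟩ : ↥L) ^ p = 1 := Subtype.ext (by
      rw [Subgroup.coe_pow]
      show x ^ p = 1
      rw [← hx]; exact pow_orderOf_eq_one x)
    rw [h4, map_one]
  · intro h
    have h4 : (⟨x, hxL⟩ : ↥L) ∈ Th.ker := h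
    rw [ker_Th] at h4
    exact BpSpor.Cen.not_mem_of_card hp hp2 (N := V) (n := 2) (by rw [card_V]; norm_num) hx (mem_subgroupOf.1 h4)

/-- 30 is not an element order -/
theorem no30 (g : Cfsg.Spor.He) : orderOf g ≠ 30 := by
  intro hg
  have := finite_he
  have h2 := orderOf_pow_eq (d := 2) (k := 15) (by norm_num) (by norm_num) hg
  have h3 := orderOf_pow_eq (d := 3) (k := 10) (by norm_num) (by norm_num) hg
  have h5 := orderOf_pow_eq (d := 5) (k := 6) (by norm_num) (by norm_num) hg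
  have ht : g ^ 15 * g ^ 15 = 1 := by rw [← pow_two, ← h2, pow_orderOf_eq_one]
  have ht1 : g ^ 15 ≠ 1 := by
    intro h
    rw [h, orderOf_one] at h2
    omega
  have c3 : Commute (g ^ 10) (g ^ 15) := (Commute.refl g).pow_pow _ _
  have c5 : Commute (g ^ 6) (g ^ 15) := (Commute.refl g).pow_pow _ _
  have c35 : Commute (g ^ 10) (g ^ 6) := (Commute.refl g).pow_pow _ _
  generalize g ^ 15 = t at h2 ht ht1 c3 c5
  generalize g ^ 10 = s at h3 c3 c35
  generalize g ^ 6 = x at h5 c5 c35
  rcases KFacts.He.Classes.two_classes_a ht ht1 with ⟨u, rfl⟩ | ⟨u, rfl⟩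
  · -- `C(z)` has order prime to 5
    have hc : u⁻¹ * x * u ∈ centralizer ({z} : Set Cfsg.Spor.He) := by
      rw [mem_centralizer_singleton_iff]
      have h : x * (u * z * u⁻¹) = (u * z * u⁻¹) * x := c5
      calc u⁻¹ * x * u * z = u⁻¹ * (x * (u * z * u⁻¹)) * u := by group
        _ = u⁻¹ * ((u * z * u⁻¹) * x) * u := by rw [h]
        _ = z * (u⁻¹ * x * u) := by group
    have h1 := Subgroup.orderOf_dvd_natCard _ hc
    rw [KFacts.He.Classes.card_centralizer] at h1
    have h6 : orderOf (u⁻¹ * x * u) = 5 := by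
      have := orderOf_conj u⁻¹ x
      rw [inv_inv] at this
      rw [this, h5]
    rw [h6] at h1
    exact absurd h1 (by norm_num)
  · have hc : ∀ y : Cfsg.Spor.He, Commute y (u * PresentedGroup.of Gen.a * u⁻¹) →
        (u⁻¹ * y * u) * gn .a = gn .a * (u⁻¹ * y * u) := by
      intro y hy
      have h : y * (u * gn .a * u⁻¹) = (u * gn .a * u⁻¹) * y := hy
      calc u⁻¹ * y * u * gn .a = u⁻¹ * (y * (u * gn .a * u⁻¹)) * u := by group
        _ = u⁻¹ * ((u * gn .a * u⁻¹) * y) * u := by rw [h]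
        _ = gn .a * (u⁻¹ * y * u) := by group
    have ho : ∀ y : Cfsg.Spor.He, orderOf (u⁻¹ * y * u) = orderOf y := by
      intro y
      have := orderOf_conj u⁻¹ y
      rwa [inv_inv] at this
    have o3 : orderOf (u⁻¹ * s * u) = 3 := by rw [ho, h3]
    have o5 : orderOf (u⁻¹ * x * u) = 5 := by rw [ho, h5]
    have m3 := mem_L_odd (by rw [o3]; decide) (hc s c3)
    have m5 := mem_L_odd (by rw [o5]; decide) (hc x c5)
    have p3 := orderOf_Th m3 Nat.prime_three (by norm_num) o3
    have p5 := orderOf_Th m5 Nat.prime_five (by norm_num) o5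
    have hcomm : Th ⟨_, m3⟩ ∈ centralizer ({Th ⟨_, m5⟩} : Set PSL3) := by
      rw [mem_centralizer_singleton_iff, ← map_mul, ← map_mul]
      congr 1
      apply Subtype.ext
      show u⁻¹ * s * u * (u⁻¹ * x * u) = u⁻¹ * x * u * (u⁻¹ * s * u)
      calc u⁻¹ * s * u * (u⁻¹ * x * u) = u⁻¹ * (s * x) * u := by group
        _ = u⁻¹ * (x * s) * u := by rw [c35.eq]
        _ = u⁻¹ * x * u * (u⁻¹ * s * u) := by group
    have hfin : Finite PSL3 := Cfsg.Agent.CpAut.SmallP.PslFour.finite_PSL3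
    have h1 := Subgroup.orderOf_dvd_natCard _ hcomm
    rw [p3, BpSpor.LFour.card_five p5] at h1
    exact absurd h1 (by norm_num)

/-- a Sylow subgroup of exponent `p`: no elements of order `p ^ 2` -/
theorem no_sq {T : Type*} [Group T] [Finite T] {p n N : ℕ} (hp : p.Prime) (hN : Nat.card T = N)
    (hm : ¬ p ^ (n + 1) ∣ N) {E : Subgroup T} (hE : Nat.card E = p ^ n) (hexp : ∀ x ∈ E, x ^ p = 1) (g : T) :
    orderOf g ≠ p * p := by
  intro hg
  have hfp : Fact p.Prime := ⟨hp⟩
  have hEp : IsPGroup p ↥E := IsPGroup.of_card hE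
  obtain ⟨P, hP⟩ := hEp.exists_le_sylow
  have hEP : E = P := by
    apply Subgroup.eq_of_le_of_card_ge hP
    obtain ⟨k, hk⟩ := IsPGroup.iff_card.1 P.isPGroup'
    have h1 : k < n + 1 := by
      by_contra h2
      apply hm
      rw [← hN]
      exact (pow_dvd_pow p (not_lt.1 h2)).trans (hk ▸ card_subgroup_dvd_card _)
    rw [hk, hE]
    exact Nat.pow_le_pow_right hp.pos (by omega)
  have hgp : IsPGroup p ↥(zpowers g) := IsPGroup.of_card (n := 2) (by rw [Nat.card_zpowers, hg, pow_two])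
  obtain ⟨P', hP'⟩ := hgp.exists_le_sylow
  obtain ⟨u, hu⟩ := MulAction.exists_smul_eq T P' P
  have h1 : u * g * u⁻¹ ∈ E := by
    rw [hEP, ← hu, Sylow.coe_subgroup_smul]
    exact Subgroup.smul_mem_pointwise_smul g (MulAut.conj u) _ (hP' (mem_zpowers g))
  have h2 := hexp _ h1
  have h3 : g ^ p = 1 := by
    rw [conj_pow] at h2
    exact conj_eq_one_iff.1 h2
  have h4 := Nat.le_of_dvd hp.pos (orderOf_dvd_of_pow_eq_one h3)
  rw [hg] at h4
  have := hp.two_le
  nlinarith

/-- 25 is not an element order -/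
theorem no25 (g : Cfsg.Spor.He) : orderOf g ≠ 25 := by
  have := finite_he
  refine no_sq (p := 5) (n := 2) (by norm_num) card_he (by norm_num) (E := H436.HeFive.E)
    (by rw [H436.HeFive.card_E]; norm_num) ?_ g
  intro x hx
  obtain ⟨i, j, rfl⟩ := H436.HeFive.exists_pow H436.HeFive.powX H436.HeFive.powY H436.HeFive.commXY hx
  rw [((show Commute (wd H436.HeFive.X) (wd H436.HeFive.Y) from H436.HeFive.commXY).pow_pow i j).mul_pow, ← pow_mul,
    ← pow_mul, mul_comm i, mul_comm j, pow_mul, pow_mul, H436.HeFive.powX, H436.HeFive.powY, one_pow, one_pow, one_mul]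

/-- the generators of a Sylow 3-subgroup -/
theorem rel3 : H856.Heis.Rel (wd H573.Spor.HeR.B) (wd H573.Spor.HeR.A) (wd H573.Spor.HeR.C) where
  a3 := pow_of_chk (by decide +kernel)
  b3 := pow_of_chk (by decide +kernel)
  w3 := pow_of_chk (by decide +kernel)
  aw := by rw [← wd_append, ← wd_append]; exact eq_of_chkB (by decide +kernel)
  bw := by rw [← wd_append, ← wd_append]; exact eq_of_chkB (by decide +kernel)
  ba := by rw [← wd_append, ← wd_append, ← wd_append]; exact eq_of_chkB (by decide +kernel)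
  w1 := ne_one_of_act 15 (by decide +kernel)

/-- 9 is not an element order -/
theorem no9 (g : Cfsg.Spor.He) : orderOf g ≠ 9 := by
  have := finite_he
  exact no_sq (p := 3) (n := 3) (by norm_num) card_he (by norm_num) (E := H856.Heis.gp rel3)
    (by rw [H856.Heis.card]; norm_num) (fun x hx => H856.Heis.cube rel3 hx) g

/-- elements of order 17 -/
theorem no17 {m : ℕ} (hm : 1 < m) (g : Cfsg.Spor.He) : orderOf g ≠ 17 * m := by
  intro hg
  have := finite_he
  have h17 := orderOf_pow_eq (d := 17) (k := m) (by norm_num) (by omega) hg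
  have hc : g ∈ centralizer ({g ^ m} : Set Cfsg.Spor.He) :=
    mem_centralizer_singleton_iff.2 (((Commute.refl g).pow_right m).eq)
  have h1 := Subgroup.orderOf_dvd_natCard _ hc
  have h2 := Nat.le_of_dvd (by norm_num) (h1.trans (H436.HeFive.cent17 _ h17))
  omega

end Cfsg.Agent.H169.He
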